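import Groth.Agent.ProjPerfLib.Transfer

/-!
# Linearity of derived twists
-/

set_option autoImplicit false
set_option linter.style.haveILetI false
set_option maxHeartbeats 1000000
set_option backward.isDefEq.respectTransparency false

universe u

open CategoryTheory CategoryTheory.Limits AlgebraicGeometry
open Groth.Agent.DCohLib Groth.Agent.DCohMore Groth.Agent.DCohMore.TwistOver Groth.Agent.DCohMore.FinHom

attribute [local instance] HasDerivedCategory.standard

noncomputable section

namespace Groth.Agent.ProjPerfLib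

variable (r : ℕ) (S : Scheme.{u}) {A : Type u} [CommRing A] [(KRR.PY r S).Over (Spec (CommRingCat.of A))]

theorem T_linear (d : ℤ) : (T r S d).Linear A := by
  obtain ⟨e⟩ := nonempty_T_right r S d
  refine (Functor.linear_iff A _).2 fun M a => ?_
  rw [← cancel_mono (e.hom.app M), e.hom.naturality, Linear.smul_comp, Category.id_comp,
    KLin.smul_id M a]
  erw [Groth.Agent.BCLib.tensorRightMod_map_smulModΓ (O r S d) M]
  rw [show (Formal.smulModΓ ((DCoh.tensorRightMod (O r S d)).obj M) _) = a • 𝟙 _ from (KLin.smul_id _ a).symm,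
    Linear.comp_smul]
  exact congrArg (a • ·) (Category.comp_id _)

theorem F_linear (d : ℤ) : (F r S d).Linear A := by
  haveI := T_linear r S (A := A) d
  refine linear_of_objects _ fun M a => ⟨DerivedCategory.Q.obj (DerivedCategory.Q.objPreimage M),
    DerivedCategory.Q.objObjPreimageIso M, ?_⟩
  let C := DerivedCategory.Q.objPreimage M
  rw [show a • 𝟙 (DerivedCategory.Q.obj C) = DerivedCategory.Q.map (a • 𝟙 C) by
    rw [Functor.map_smul, CategoryTheory.Functor.map_id],
    ← cancel_mono ((T r S d).mapDerivedCategoryFactors.hom.app C), Linear.smul_comp, Category.id_comp]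
  refine ((T r S d).mapDerivedCategoryFactors.hom.naturality (a • 𝟙 C)).trans ?_
  show _ ≫ DerivedCategory.Q.map (((T r S d).mapHomologicalComplex _).map (a • 𝟙 C)) = _
  rw [Functor.map_smul, Functor.map_smul, Linear.comp_smul, CategoryTheory.Functor.map_id, CategoryTheory.Functor.map_id]
  exact congrArg (a • ·) (Category.comp_id _)

theorem isEquivalence_F (d : ℤ) : (F r S d).IsEquivalence := by
  obtain ⟨e₁⟩ := nonempty_F_comp r S (add_neg_cancel d)
  obtain ⟨e₂⟩ := nonempty_F_comp r S (neg_add_cancel d)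
  obtain ⟨z⟩ := nonempty_F_zero r S
  exact Functor.IsEquivalence.mk' (F r S (-d)) (e₁ ≪≫ z).symm (e₂ ≪≫ z)

/-- Moving a twist to the source of shifted morphisms, linearly. -/
theorem nonempty_hom_twist (d : ℤ) (U K : DCoh.D (KRR.PY r S)) (m : ℤ) :
    Nonempty ((U ⟶ ((F r S (-d)).obj K)⟦m⟧) ≃ₗ[A] ((F r S d).obj U ⟶ K⟦m⟧)) := by
  haveI := F_linear r S (A := A) d
  haveI := isEquivalence_F r S d
  obtain ⟨c⟩ := nonempty_F_comp r S (neg_add_cancel d)
  obtain ⟨z⟩ := nonempty_F_zero r S
  exact ⟨(LinearEquiv.ofBijective ((F r S d).mapLinearMap A)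
      ⟨(F r S d).map_injective, (F r S d).map_surjective⟩).trans
    (Linear.homCongr A (Iso.refl _)
      (((F r S d).commShiftIso m).app _ ≪≫ (shiftFunctor (DCoh.D (KRR.PY r S)) m).mapIso ((c ≪≫ z).app K)))⟩

end Groth.Agent.ProjPerfLib
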