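import Groth.Agent.DCohMore.FinHom
import Groth.Agent.DCohMore.RegPerf
import Groth.Agent.ASp.GeomRedEt
import Groth.Agent.FactorOne.Basic

/-!
# Perfect objects over a field from finiteness of morphisms
-/

set_option autoImplicit false
set_option linter.style.haveILetI false
set_option maxHeartbeats 1000000
set_option backward.isDefEq.respectTransparency false

universe u

open CategoryTheory CategoryTheory.Limits AlgebraicGeometry Opposite
open Groth.Agent.DCohLib Groth.Agent.DCohMore Groth.Agent.DCohMore.FinHom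

attribute [local instance] HasDerivedCategory.standard

noncomputable section

namespace Groth.Agent.ProjPerfLib

/-- Degree zero homology is linear. -/
theorem homology_linear {A : Type u} [CommRing A] (S : Scheme.{u}) [S.Over (Spec (CommRingCat.of A))] :
    (DerivedCategory.homologyFunctor S.Modules 0).Linear A := by
  refine linear_of_objects _ fun M a => ⟨DerivedCategory.Q.obj (DerivedCategory.Q.objPreimage M),
    DerivedCategory.Q.objObjPreimageIso M, ?_⟩
  let C := DerivedCategory.Q.objPreimage M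
  rw [show a • 𝟙 (DerivedCategory.Q.obj C) = DerivedCategory.Q.map (a • 𝟙 C) by
    rw [Functor.map_smul, CategoryTheory.Functor.map_id],
    ← cancel_mono ((DerivedCategory.homologyFunctorFactors S.Modules 0).hom.app C), Linear.smul_comp,
    Category.id_comp]
  refine ((DerivedCategory.homologyFunctorFactors S.Modules 0).hom.naturality (a • 𝟙 C)).trans ?_
  show _ ≫ HomologicalComplex.homologyMap (a • 𝟙 C) 0 = _
  rw [show HomologicalComplex.homologyMap (a • 𝟙 C) 0 = a • 𝟙 (C.homology 0) by
    show ShortComplex.homologyMap ((HomologicalComplex.shortComplexFunctor _ _ 0).map (a • 𝟙 C)) = _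
    rw [show (HomologicalComplex.shortComplexFunctor _ _ 0).map (a • 𝟙 C) = a • 𝟙 (C.sc 0) by ext <;> rfl,
      ShortComplex.homologyMap_smul, ShortComplex.homologyMap_id]
    rfl, Linear.comp_smul]
  exact congrArg (a • ·) (Category.comp_id _)

theorem ofSection_one {X : Scheme.{u}} (M : X.Modules) (s : Γ(M, ⊤)) :
    (FactorOne.ofSection M s).app ⊤ (1 : Γ(X, ⊤)) = s := by
  rw [FactorOne.ofSection_app, one_smul]
  exact ConcreteCategory.congr_hom (M.presheaf.map_id (op (⊤ : X.Opens))) s

/-- Constants as global functions on the spectrum. -/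
def toΓ (A : Type u) [CommRing A] [(Spec (CommRingCat.of A)).Over (Spec (CommRingCat.of A))] :
    A →+* Γ(Spec (CommRingCat.of A), ⊤) :=
  Coh.toGlobal ((Spec (CommRingCat.of A)) ↘ Spec (CommRingCat.of A))

/-- Sections of degree zero homology are morphisms from the structure sheaf, linearly. -/
theorem exists_sections_surjective {A : Type u} [CommRing A] [(Spec (CommRingCat.of A)).Over (Spec (CommRingCat.of A))]
    (V : DCoh.D (Spec (CommRingCat.of A))) (hV : DCoh.IsQCohD V) :
    letI := Module.compHom Γ(DCoh.HD V 0, ⊤)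
      (toΓ A)
    ∃ Φ : (DCoh.inD (Spec (CommRingCat.of A)) (Coh.structureModule _) ⟶ V) →ₗ[A] Γ(DCoh.HD V 0, ⊤),
      Function.Surjective Φ := by
  let S := Spec (CommRingCat.of A)
  let R := CommRingCat.of A
  haveI : PreservesFiniteLimits (tilde.functor R) := TildeD.preservesFiniteLimits_tilde
  haveI : PreservesColimitsOfSize.{0, 0} (tilde.functor R) :=
    haveI : PreservesColimitsOfSize.{u, u} (tilde.functor R) := tilde.adjunction.leftAdjoint_preservesColimits
    preservesColimitsOfSize_shrink _
  haveI : PreservesFiniteColimits (tilde.functor R) := PreservesColimitsOfSize.preservesFiniteColimits _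
  let H := DerivedCategory.homologyFunctor S.Modules 0
  haveI : H.Linear A := homology_linear S
  let O := Coh.structureModule S
  let o : (DCoh.tildeD R).obj (Dual.inD R R) ≅ DCoh.inD S O :=
    ((tilde.functor R).mapDerivedCategorySingleFunctor 0).app _ ≪≫
      (DerivedCategory.singleFunctor S.Modules 0).mapIso tildeSelf
  let o' : O ≅ H.obj (DCoh.inD S O) :=
    ((DerivedCategory.singleFunctorCompHomologyFunctorIso S.Modules 0).app O).symm
  let M := DCoh.HD V 0
  letI : Module A Γ(M, ⊤) := Module.compHom Γ(M, ⊤) (toΓ A)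
  refine ⟨{ toFun := fun f => (o'.hom ≫ H.map f).app ⊤ (1 : Γ(S, ⊤))
            map_add' := fun f g => by
              rw [H.map_add, Preadditive.comp_add]
              rfl
            map_smul' := fun a f => by
              rw [RingHom.id_apply, Functor.map_smul, Linear.comp_smul, KLin.smul_app_apply]
              refine congrArg (· • _) ?_
              exact ConcreteCategory.congr_hom (S.presheaf.map_id (op ⊤)) _ }, fun s => ?_⟩
  obtain ⟨f, hf⟩ := (TildeD.homology_map_bijective_qcoh R 0 V hV).2 (H.map o.hom ≫ o'.inv ≫ FactorOne.ofSection M s)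
  refine ⟨o.inv ≫ f, ?_⟩
  show (o'.hom ≫ H.map (o.inv ≫ f)).app ⊤ (1 : Γ(S, ⊤)) = s
  rw [Functor.map_comp, show H.map f = _ from hf, ← H.map_comp_assoc, o.inv_hom_id, H.map_id, Category.id_comp,
    o'.hom_inv_id_assoc, ofSection_one]

/-- Over a field, an object with finitely many finite dimensional spaces of morphisms from `O` is perfect. -/
theorem isPerfect_of_hom_finite (k : Type u) [Field k] [(Spec (CommRingCat.of k)).Over (Spec (CommRingCat.of k))]
    (hid : (Spec (CommRingCat.of k)) ↘ Spec (CommRingCat.of k) = 𝟙 _)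
    (V : DCoh.D (Spec (CommRingCat.of k))) (hV : DCoh.IsQCohD V)
    (hf : ∀ m : ℤ, Module.Finite k (DCoh.inD (Spec (CommRingCat.of k)) (Coh.structureModule _) ⟶ V⟦m⟧))
    (hb : {m : ℤ | Nontrivial (DCoh.inD (Spec (CommRingCat.of k)) (Coh.structureModule _) ⟶ V⟦m⟧)}.Finite) :
    DCoh.IsPerfect V := by
  let S := Spec (CommRingCat.of k)
  let R := CommRingCat.of k
  let φ : k →+* Γ(S, ⊤) := toΓ k
  have hs : ∀ m : ℤ, IsZero (DCoh.HD V m) ∨
      (Nontrivial (DCoh.inD S (Coh.structureModule _) ⟶ V⟦m⟧)) := fun m => by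
    by_cases hn : Nontrivial (DCoh.inD S (Coh.structureModule _) ⟶ V⟦m⟧)
    · exact Or.inr hn
    · refine Or.inl (IsZero.of_iso ?_ (((DerivedCategory.homologyFunctor S.Modules 0).shiftIso m 0 m (add_zero m)).app V).symm)
      obtain ⟨Φ, hΦ⟩ := exists_sections_surjective (A := k) (V⟦m⟧) (DCohMore.isQCohD_shift' hV m)
      haveI := not_nontrivial_iff_subsingleton.1 hn
      haveI : Subsingleton Γ(DCoh.HD (V⟦m⟧) 0, ⊤) := hΦ.subsingleton
      haveI : Coh.IsQCoh (DCoh.HD (V⟦m⟧) 0) := DCohMore.isQCohD_shift' hV m 0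
      haveI := Scheme.Modules.isIso_fromTildeΓ_of_isQuasicoherent (DCoh.HD (V⟦m⟧) 0)
      let N := (moduleSpecΓFunctor (R := R)).obj (DCoh.HD (V⟦m⟧) 0)
      haveI : Subsingleton N := ‹Subsingleton Γ(DCoh.HD (V⟦m⟧) 0, ⊤)›
      exact ((tilde.functor R).map_isZero (ModuleCat.isZero_of_subsingleton N)).of_iso
          (asIso (Scheme.Modules.fromTildeΓ (R := R) (DCoh.HD (V⟦m⟧) 0))).symm
  obtain ⟨lo, hlo⟩ := hb.bddBelow
  obtain ⟨hi, hhi⟩ := hb.bddAbove
  haveI : V.IsGE lo := (DerivedCategory.isGE_iff _ _).2 fun m hm => by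
    rcases hs m with h | h
    · exact h
    · exact absurd (hlo h) (not_le.2 hm)
  haveI : V.IsLE hi := (DerivedCategory.isLE_iff _ _).2 fun m hm => by
    rcases hs m with h | h
    · exact h
    · exact absurd (hhi h) (not_le.2 hm)
  haveI : IsLocallyNoetherian S := inferInstance
  refine isPerfect_of_regular (fun x => ?_) V lo hi fun m => ?_
  · exact ASp.isRegularLocalRing_stalk_of_smooth_field (k := k) (𝟙 S) x
  · refine DCohLib.isCoh_iso (((DerivedCategory.homologyFunctor S.Modules 0).shiftIso m 0 m (add_zero m)).app V) ?_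
    let M := DCoh.HD (V⟦m⟧) 0
    haveI hq : Coh.IsQCoh M := DCohMore.isQCohD_shift' hV m 0
    obtain ⟨Φ, hΦ⟩ := exists_sections_surjective (A := k) (V⟦m⟧) (DCohMore.isQCohD_shift' hV m)
    letI : Module k Γ(M, ⊤) := Module.compHom Γ(M, ⊤) φ
    letI : Algebra k Γ(S, ⊤) := φ.toAlgebra
    haveI : IsScalarTower k Γ(S, ⊤) Γ(M, ⊤) := .of_algebraMap_smul fun _ _ => rfl
    haveI := hf m
    haveI : Module.Finite k Γ(M, ⊤) := Module.Finite.of_surjective Φ hΦ
    haveI : Module.Finite Γ(S, ⊤) Γ(M, ⊤) := Module.Finite.of_restrictScalars_finite k _ _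
    exact ⟨hq, QCohLib.isFiniteType_of_finite M (fun _ : PUnit.{u+1} => (⊤ : S.Opens)) (fun _ => isAffineOpen_top S)
      (iSup_const) fun _ => inferInstance⟩

end Groth.Agent.ProjPerfLib
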