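import Groth.Agent.ProjPerfLib.Window
import Groth.Agent.ProjPerfLib.Field
import Groth.Agent.DCohLib.PerfCoh

/-!
# Perfectness on projective space over a field from finiteness of cohomology of twists
-/

set_option autoImplicit false
set_option linter.style.haveILetI false
set_option maxHeartbeats 1000000
set_option backward.isDefEq.respectTransparency false

universe u

open CategoryTheory CategoryTheory.Limits AlgebraicGeometry
open CategoryTheory.Pretriangulated
open Groth.Agent.DCohLib Groth.Agent.DCohMore Groth.Agent.DCohMore.TwistOver Groth.Agent.DCohMore.FinHom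

attribute [local instance] HasDerivedCategory.standard

noncomputable section

namespace Groth.Agent.ProjPerfLib

/-- Finitely many finite dimensional cohomology spaces upstairs give the same for the direct image. -/
theorem isPerfect_rpush_of_hom_finite (k : Type u) [Field k] {X : Scheme.{u}} [X.Over (Spec (CommRingCat.of k))]
    [QuasiCompact (X ↘ Spec (CommRingCat.of k))] [QuasiSeparated (X ↘ Spec (CommRingCat.of k))]
    [DCoh.HasRpush (X ↘ Spec (CommRingCat.of k))]
    (W : DCoh.D X) (hW : DCoh.IsQCohD ((DCoh.Rpush (X ↘ Spec (CommRingCat.of k))).obj W))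
    (hf : ∀ m : ℤ, Module.Finite k (DCoh.inD X (Coh.structureModule X) ⟶ W⟦m⟧))
    (hb : {m : ℤ | Nontrivial (DCoh.inD X (Coh.structureModule X) ⟶ W⟦m⟧)}.Finite) :
    DCoh.IsPerfect ((DCoh.Rpush (X ↘ Spec (CommRingCat.of k))).obj W) := by
  let S := Spec (CommRingCat.of k)
  let π := X ↘ S
  letI : S.Over (Spec (CommRingCat.of k)) := ⟨𝟙 _⟩
  haveI : π.IsOver (Spec (CommRingCat.of k)) := ⟨Category.comp_id _⟩
  haveI := hasLpull π
  haveI : SiteCmp.HasRpushD (ModSite.RMor.ofScheme π) := ‹DCoh.HasRpush π›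
  obtain ⟨h₁, h₂⟩ := SiteCmpLib.exists_triangulated_rpushD (ModSite.RMor.ofScheme π)
  letI : (DCoh.Rpush π).CommShift ℤ := h₁
  haveI : (DCoh.Rpush π).IsTriangulated := h₂
  haveI := rpush_linear (A := k) π
  haveI : IsIso ((BC.lamN π 0).app (Coh.structureModule S)) :=
    BC.isIso_lamN_app_flat π 0 _ ((isFlat_iff _).2 (SiteBase.ExtZeroPre.isFlat_unit S.sheaf))
  let eU : (DCoh.Lpull π).obj (DCoh.inD S (Coh.structureModule S)) ≅ DCoh.inD X (Coh.structureModule X) :=
    asIso ((BC.lamN π 0).app (Coh.structureModule S)) ≪≫ (BC.TT X 0).mapIso (pullStructureIso π)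
  have key : ∀ m : ℤ, Nonempty ((DCoh.inD X (Coh.structureModule X) ⟶ W⟦m⟧) ≃ₗ[k]
      (DCoh.inD S (Coh.structureModule S) ⟶ ((DCoh.Rpush π).obj W)⟦m⟧)) := fun m =>
    ⟨((Linear.homCongr k eU.symm (Iso.refl _)).trans (homLinearEquiv' (A := k) (lpullRpushAdj π) _ _)).trans
      (Linear.homCongr k (Iso.refl _) (((DCoh.Rpush π).commShiftIso m).app W))⟩
  refine isPerfect_of_hom_finite k rfl _ hW (fun m => ?_) (hb.subset fun m hm => ?_)
  · obtain ⟨e⟩ := key m
    haveI := hf m
    exact Module.Finite.equiv e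
  · obtain ⟨e⟩ := key m
    haveI : Nontrivial _ := hm
    exact e.toEquiv.nontrivial

variable (n : ℕ) (k : Type u) [Field k]

/-- On projective space over a field, finiteness of the cohomology of the twists gives perfectness. -/
theorem isPerfect_of_twists (K : DCoh.D (KRR.PY n (Spec (CommRingCat.of k)))) (hK : DCoh.IsQCohD K)
    (h : ∀ j : ℕ, j ≤ n →
      (∀ i : ℤ, Module.Finite k (DCoh.inD (KRR.PY n (Spec (CommRingCat.of k))) (Coh.structureModule _) ⟶
          ((F n (Spec (CommRingCat.of k)) (-(j : ℤ))).obj K)⟦i⟧)) ∧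
      {i : ℤ | Nontrivial (DCoh.inD (KRR.PY n (Spec (CommRingCat.of k))) (Coh.structureModule _) ⟶
          ((F n (Spec (CommRingCat.of k)) (-(j : ℤ))).obj K)⟦i⟧)}.Finite) :
    DCoh.IsPerfect K := by
  let S := Spec (CommRingCat.of k)
  haveI := BC.hasRpush (KRR.pr n S)
  haveI : QuasiCompact (KRR.PY n S ↘ S) := inferInstanceAs (QuasiCompact (KRR.pr n S))
  haveI : QuasiSeparated (KRR.PY n S ↘ S) := inferInstanceAs (QuasiSeparated (KRR.pr n S))
  haveI : DCoh.HasRpush (KRR.PY n S ↘ S) := ‹DCoh.HasRpush (KRR.pr n S)›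
  refine isPerfect_of_window n S K hK fun j hj => ?_
  exact isPerfect_rpush_of_hom_finite k (X := KRR.PY n S) _
    (isQCohD_rpush (KRR.pr n S) _ (isQCohD_F n S _ K hK)) (h j hj).1 (h j hj).2

/-- Perfect objects and bounded coherent objects agree on projective space over a field. -/
theorem cohbP_of_isPerfect (K : DCoh.D (KRR.PY n (Spec (CommRingCat.of k)))) (hK : DCoh.IsPerfect K) :
    SGA6.cohbP _ K := by
  haveI := isProper_pr n (Spec (CommRingCat.of k))
  haveI : IsLocallyNoetherian (KRR.PY n (Spec (CommRingCat.of k))) :=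
    LocallyOfFiniteType.isLocallyNoetherian (KRR.pr n (Spec (CommRingCat.of k)))
  haveI : CompactSpace (KRR.PY n (Spec (CommRingCat.of k))) :=
    QuasiCompact.compactSpace_of_compactSpace (KRR.pr n (Spec (CommRingCat.of k)))
  haveI : IsNoetherian (KRR.PY n (Spec (CommRingCat.of k))) := {}
  exact isCohD_bounded_of_isPerfect K hK

theorem isPerfect_of_cohbP (K : DCoh.D (KRR.PY n (Spec (CommRingCat.of k)))) (hK : SGA6.cohbP _ K) :
    DCoh.IsPerfect K := by
  obtain ⟨hc, a, b, ha, hb⟩ := hK
  haveI : IsLocallyNoetherian (KRR.PY n (Spec (CommRingCat.of k))) :=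
    LocallyOfFiniteType.isLocallyNoetherian (KRR.pr n (Spec (CommRingCat.of k)))
  haveI := smooth_pr n (Spec (CommRingCat.of k))
  exact isPerfect_of_regular (fun x => ASp.isRegularLocalRing_stalk_of_smooth_field (k := k)
    (KRR.pr n (Spec (CommRingCat.of k))) x) K a b hc

end Groth.Agent.ProjPerfLib
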