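import Groth.Agent.DCohMore.ProjSpaceOverDer
import Groth.Agent.DCohMore.SpecThomason
import Groth.Agent.DCohLib.TwoThree
import Groth.Agent.DCohLib.PCTop

/-!
# Objects with perfect twisted direct images on projective space
-/

set_option autoImplicit false
set_option linter.style.haveILetI false
set_option maxHeartbeats 1000000
set_option backward.isDefEq.respectTransparency false

universe u

open CategoryTheory CategoryTheory.Limits AlgebraicGeometry
open CategoryTheory.Pretriangulated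
open Groth.Agent.DCohLib Groth.Agent.DCohMore Groth.Agent.DCohMore.TwistOver

attribute [local instance] HasDerivedCategory.standard

noncomputable section

namespace Groth.Agent.ProjPerfLib

variable (r : ℕ) (S : Scheme.{u})

theorem isPerfect_F (d : ℤ) (K : DCoh.D (KRR.PY r S)) (hK : DCoh.IsPerfect K) :
    DCoh.IsPerfect ((F r S d).obj K) := by
  haveI : DCoh.HasLTensorMod (O r S d) := DCohLib.hasLTensorMod _
  obtain ⟨e⟩ := nonempty_F_lTensorMod r S d K
  obtain ⟨s⟩ := nonempty_lTensorMod_single (O r S d) K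
  have h := isStrictlyPerfect_single (isFinLocFree_O r S d)
  exact isPerfect_iso (e ≪≫ s).symm (isPerfect_lTensor _ (isKFlat_of_strictlyPerfect h)
    (isPerfect_of_perfOn ⟨_, h, ⟨Iso.refl _⟩⟩) K hK)

/-- Objects whose twisted direct images in the window are perfect are perfect. -/
theorem isPerfect_of_window [DCoh.HasRpush (KRR.pr r S)] (K : DCoh.D (KRR.PY r S)) (hK : DCoh.IsQCohD K)
    (h : ∀ j : ℕ, j ≤ r → DCoh.IsPerfect ((DCoh.Rpush (KRR.pr r S)).obj ((F r S (-(j : ℤ))).obj K))) :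
    DCoh.IsPerfect K := by
  let π := KRR.pr r S
  haveI := hasLpull π
  haveI : SiteCmp.HasRpushD (ModSite.RMor.ofScheme π) := ‹DCoh.HasRpush π›
  obtain ⟨h₁, h₂⟩ := SiteCmpLib.exists_triangulated_rpushD (ModSite.RMor.ofScheme π)
  letI : (DCoh.Rpush π).CommShift ℤ := h₁
  haveI : (DCoh.Rpush π).IsTriangulated := h₂
  let G : ℕ → DCoh.D (KRR.PY r S) ⥤ DCoh.D S := fun j => F r S (-(j : ℤ)) ⋙ DCoh.Rpush π
  suffices H : ∀ k : ℕ, k ≤ r + 1 → ∀ C, DCoh.IsQCohD C → (∀ j : ℕ, j ≤ r → DCoh.IsPerfect ((G j).obj C)) →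
      (∀ j : ℕ, k ≤ j → j ≤ r → IsZero ((G j).obj C)) → DCoh.IsPerfect C from
    H (r + 1) le_rfl K hK h fun j hj hj' => absurd hj' (by omega)
  intro k
  induction k with
  | zero =>
    intro _ C hC _ hz
    exact isPerfect_of_perfOn (perfOn_of_isZero (isZero_of_window r S C hC fun j hj => hz j (Nat.zero_le _) hj))
  | succ k ih =>
    intro hk C hC hp hz
    let M := (G k).obj C
    have hM : DCoh.IsPerfect M := hp k (by omega)
    have hMq : DCoh.IsQCohD M := DCohMore.isQCohD_of_isPerfect hM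
    let E := (F r S (k : ℤ)).obj ((DCoh.Lpull π).obj M)
    have hE : DCoh.IsPerfect E := isPerfect_F r S _ _ (isPerfect_lpull π M hM)
    obtain ⟨c⟩ := nonempty_F_comp r S (neg_add_cancel (k : ℤ))
    obtain ⟨c'⟩ := nonempty_F_comp r S (add_neg_cancel (k : ℤ))
    obtain ⟨z⟩ := nonempty_F_zero r S
    let adj := lpullRpushAdj π
    let C' := (F r S (-(k : ℤ))).obj C
    let ε := adj.counit.app C'
    let φ : E ⟶ C := (F r S (k : ℤ)).map ε ≫ (c ≪≫ z).hom.app C
    obtain ⟨Q, b, d, hT⟩ := distinguished_cocone_triangle φ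
    have hQ : DCoh.IsQCohD Q := isQCohD_obj₃' _ hT (DCohMore.isQCohD_of_isPerfect hE) hC
    have hQp : ∀ j : ℕ, j ≤ r → DCoh.IsPerfect ((G j).obj Q) := fun j hj =>
      isPerfect_obj₃ _ ((G j).map_distinguished _ hT) (isPerfect_rpush_F r S _ _ hE) (hp j hj)
    have keyz : ∀ j : ℕ, k < j → j ≤ r → IsZero ((G j).obj E) := fun j hkj hj => by
      obtain ⟨e⟩ := nonempty_F_comp r S (show (k : ℤ) + -(j : ℤ) = k - j by ring)
      exact (isZero_rpush_F_lpull r S _ (by omega) (by omega) M hMq).of_iso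
        ((DCoh.Rpush π).mapIso (e.app _))
    have hε : IsIso ((DCoh.Rpush π).map ε) := by
      haveI : IsIso (adj.unit.app ((DCoh.Rpush π).obj C')) := isIso_unit r S _ hMq
      haveI : IsIso (adj.unit.app ((DCoh.Rpush π).obj C') ≫ (DCoh.Rpush π).map ε) := by
        erw [adj.right_triangle_components]
        exact inferInstanceAs (IsIso (𝟙 _))
      exact IsIso.of_isIso_comp_left (adj.unit.app ((DCoh.Rpush π).obj C')) _
    have hk0 : IsIso ((G k).map φ) := by
      haveI := hε
      haveI : IsIso ((DCoh.Rpush π).map ((F r S (k : ℤ) ⋙ F r S (-(k : ℤ))).map ε)) :=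
        (NatIso.isIso_map_iff (Functor.isoWhiskerRight (c' ≪≫ z) (DCoh.Rpush π)) ε).2 hε
      show IsIso ((DCoh.Rpush π).map ((F r S (-(k : ℤ))).map ((F r S (k : ℤ)).map ε ≫ (c ≪≫ z).hom.app C)))
      rw [Functor.map_comp, Functor.map_comp]
      haveI : IsIso ((DCoh.Rpush π).map ((F r S (-(k : ℤ))).map ((F r S (k : ℤ)).map ε))) := by assumption
      infer_instance
    have hzQ : ∀ j : ℕ, k ≤ j → j ≤ r → IsZero ((G j).obj Q) := fun j hj hj' => by
      have hT' := (G j).map_distinguished _ hT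
      rcases eq_or_lt_of_le hj with rfl | hlt
      · exact Triangle.isZero₃_of_isIso₁ _ hT' hk0
      · exact Triangle.isZero₃_of_isIso₁ _ hT' (IsZero.isIso (keyz j hlt hj') (hz j hlt hj') _)
    have hQperf := ih (by omega) Q hQ hQp hzQ
    exact isPerfect_obj₃ _ (inv_rot_of_distTriang _ hT) (isPerfect_shift hQperf _) hE

end Groth.Agent.ProjPerfLib
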